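import Cfsg.Agent.NilpotentCover.Basic
import Cfsg.Agent.Solvable.Frattini
import Cfsg.Agent.Solvable.Fitting

/-!
A normal subgroup `N` of a finite group `G` in which the centralizers in `G` of the elements
outside the centre of `N` are maximal subgroups of `G`: centralizers inside `N`.
-/

set_option autoImplicit false
set_option linter.style.haveILetI false

namespace CfsgLib.MaxCentralizer

open Subgroup

variable {G : Type*} [Group G]

/-- The centralizers in `G` of the elements of `N` outside its centre are maximal. -/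
def Hyp (N : Subgroup G) : Prop :=
  ∀ x : G, x ∈ N → x ∉ centralizer (N : Set G) → IsCoatom (centralizer ({x} : Set G))

/-- The centralizer of `x` in `N`. -/
def cN (N : Subgroup G) (x : G) : Subgroup G := N ⊓ centralizer ({x} : Set G)

/-- The centre of `N`, inside `G`. -/
def cZ (N : Subgroup G) : Subgroup G := N ⊓ centralizer (N : Set G)

variable {N : Subgroup G}

theorem cN_le (x : G) : cN N x ≤ N := inf_le_left

theorem mem_cN {x y : G} : y ∈ cN N x ↔ y ∈ N ∧ y * x = x * y := by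
  rw [cN, mem_inf, mem_centralizer_singleton_iff]

theorem mem_cZ {y : G} : y ∈ cZ N ↔ y ∈ N ∧ ∀ n ∈ N, n * y = y * n := by
  rw [cZ, mem_inf, mem_centralizer_iff]
  rfl

theorem self_mem_cN {x : G} (hx : x ∈ N) : x ∈ cN N x := mem_cN.mpr ⟨hx, rfl⟩

theorem cZ_le_cN {x : G} (hx : x ∈ N) : cZ N ≤ cN N x := fun y hy =>
  mem_cN.mpr ⟨(mem_cZ.mp hy).1, ((mem_cZ.mp hy).2 x hx).symm⟩

theorem cN_ne_self {x : G} (hx : x ∈ N) (hxc : x ∉ centralizer (N : Set G)) : cN N x ≠ N := by
  intro h
  apply hxc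
  rw [mem_centralizer_iff]
  intro n hn
  rw [SetLike.mem_coe, ← h] at hn
  exact (mem_cN.mp hn).2

theorem cZ_normal [hN : N.Normal] : (cZ N).Normal := by
  refine ⟨fun y hy g => mem_cZ.mpr ⟨hN.conj_mem y (mem_cZ.mp hy).1 g, fun n hn => ?_⟩⟩
  have h := (mem_cZ.mp hy).2 _ (hN.conj_mem n hn g⁻¹)
  rw [inv_inv] at h
  calc n * (g * y * g⁻¹) = g * (g⁻¹ * n * g * y) * g⁻¹ := by group
    _ = g * y * g⁻¹ * n := by rw [h]; group

theorem le_normalizer_cN [hN : N.Normal] (x : G) :
    centralizer ({x} : Set G) ≤ normalizer ((cN N x : Subgroup G) : Set G) := by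
  intro c hc
  rw [mem_centralizer_singleton_iff] at hc
  have hc' : c⁻¹ * x = x * c⁻¹ := (Commute.inv_left (show Commute c x from hc)).eq
  have key : ∀ d : G, d * x = x * d → ∀ y ∈ cN N x, d * y * d⁻¹ ∈ cN N x := by
    intro d hd y hy
    refine mem_cN.mpr ⟨hN.conj_mem y (mem_cN.mp hy).1 d, ?_⟩
    have hd' : Commute d x := hd
    exact ((hd'.mul_left (mem_cN.mp hy).2).mul_left hd'.inv_left).eq
  rw [mem_normalizer_iff]
  refine fun y => ⟨key c hc y, fun h => ?_⟩
  have := key c⁻¹ hc' _ h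
  simpa [mul_assoc] using this

/-- Every element is a product of elements of prime power order among its powers. -/
theorem mem_of_primePow [Finite G] (H : Subgroup G) (a : G)
    (h : ∀ b ∈ zpowers a, ∀ q : ℕ, q.Prime → (∃ i, orderOf b = q ^ i) → b ∈ H) : a ∈ H := by
  suffices ∀ n, ∀ b ∈ zpowers a, orderOf b = n → b ∈ H from this _ a (mem_zpowers a) rfl
  intro n
  induction n using Nat.strong_induction_on with
  | _ n ih =>
    intro b hb hn
    rcases eq_or_ne n 1 with rfl | hn1
    · rw [orderOf_eq_one_iff.mp hn]; exact one_mem H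
    obtain ⟨q, hq, hqn⟩ := Nat.exists_prime_and_dvd hn1
    have hnpos : 0 < n := hn ▸ orderOf_pos b
    obtain ⟨k, m, hm, hkm⟩ := Nat.exists_eq_pow_mul_and_not_dvd hnpos.ne' q hq.ne_one
    have hm0 : m ≠ 0 := by rintro rfl; simp at hkm; omega
    rcases eq_or_ne m 1 with hm1 | hm1
    · exact h b hb q hq ⟨k, by rw [hn, hkm, hm1, mul_one]⟩
    have hk0 : k ≠ 0 := by
      rintro rfl
      rw [pow_zero, one_mul] at hkm
      exact hm (hkm ▸ hqn)
    have h1 : orderOf (b ^ m) = q ^ k := by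
      rw [orderOf_pow_of_dvd hm0 (by rw [hn, hkm]; exact dvd_mul_left _ _), hn, hkm,
        Nat.mul_div_cancel _ (Nat.pos_of_ne_zero hm0)]
    have h2 : orderOf (b ^ q ^ k) = m := by
      rw [orderOf_pow_of_dvd (pow_ne_zero _ hq.ne_zero) (by rw [hn, hkm]; exact dvd_mul_right _ _),
        hn, hkm, Nat.mul_div_cancel_left _ (pow_pos hq.pos k)]
    have hlt1 : q ^ k < n := by
      rw [hkm]; exact lt_mul_of_one_lt_right (pow_pos hq.pos k) (by omega)
    have hlt2 : m < n := by
      rw [hkm]; exact lt_mul_of_one_lt_left (Nat.pos_of_ne_zero hm0) (Nat.one_lt_pow hk0 hq.one_lt)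
    have c1 := ih _ hlt1 (b ^ m) (pow_mem hb _) h1
    have c2 := ih _ hlt2 (b ^ q ^ k) (pow_mem hb _) h2
    have hco : Nat.Coprime (q ^ k) m := Nat.Coprime.pow_left _ (hq.coprime_iff_not_dvd.mpr hm)
    have : b = (b ^ q ^ k) ^ (Nat.gcdA (q ^ k) m) * (b ^ m) ^ (Nat.gcdB (q ^ k) m) := by
      rw [← zpow_natCast b m, ← zpow_natCast b (q ^ k), ← zpow_mul, ← zpow_mul, ← zpow_add,
        ← Nat.gcd_eq_gcd_ab, hco.gcd_eq_one, Nat.cast_one, zpow_one]
    rw [this]
    exact mul_mem (zpow_mem c2 _) (zpow_mem c1 _)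

/-- `R` is `cN N x` or `N` when normalized by the centralizer of `x`. -/
theorem eq_or_eq (hH : Hyp N) {x : G} (hx : x ∈ N) (hxc : x ∉ centralizer (N : Set G))
    {R : Subgroup G} (hle : cN N x ≤ R) (hRN : R ≤ N)
    (hR : centralizer ({x} : Set G) ≤ normalizer (R : Set G)) : R = cN N x ∨ R = N := by
  by_cases hRC : R ≤ centralizer ({x} : Set G)
  · exact Or.inl (le_antisymm (le_inf hRN hRC) hle)
  refine Or.inr (le_antisymm hRN fun n hn => ?_)
  have htop : centralizer ({x} : Set G) ⊔ R = ⊤ :=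
    (hH x hx hxc).2 _ (lt_of_le_of_ne le_sup_left fun h => hRC (h ▸ le_sup_right))
  have hmem : n ∈ (↑(centralizer ({x} : Set G) ⊔ R) : Set G) := by rw [htop]; trivial
  rw [coe_mul_of_left_le_normalizer_right _ _ hR] at hmem
  obtain ⟨c, hc, r, hr, rfl⟩ := hmem
  have hcN : c ∈ N := by simpa using mul_mem hn (inv_mem (hRN hr))
  exact mul_mem (hle ⟨hcN, hc⟩) hr

/-- `G` is the product of the centralizer of `x` and `N`. -/
theorem exists_mul [hN : N.Normal] (hH : Hyp N) {x : G} (hx : x ∈ N)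
    (hxc : x ∉ centralizer (N : Set G)) (g : G) :
    ∃ c ∈ centralizer ({x} : Set G), ∃ n ∈ N, g = c * n := by
  have hnle : ¬ N ≤ centralizer ({x} : Set G) := fun h =>
    cN_ne_self hx hxc (inf_eq_left.mpr h)
  have htop : centralizer ({x} : Set G) ⊔ N = ⊤ :=
    (hH x hx hxc).2 _ (lt_of_le_of_ne le_sup_left fun h => hnle (h ▸ le_sup_right))
  have hmem : g ∈ (↑(centralizer ({x} : Set G) ⊔ N) : Set G) := by rw [htop]; trivial
  rw [coe_mul_of_left_le_normalizer_right _ _ (by rw [normalizer_eq_top N]; exact le_top)] at hmem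
  obtain ⟨c, hc, n, hn, rfl⟩ := hmem
  exact ⟨c, hc, n, hn, rfl⟩

/-- Powers outside the centre have the same centralizer. -/
theorem centralizer_eq_of_mem_zpowers (hH : Hyp N) {n x : G} (hn : n ∈ N) (hx : x ∈ zpowers n)
    (hxc : x ∉ centralizer (N : Set G)) :
    centralizer ({n} : Set G) = centralizer ({x} : Set G) ∧ n ∉ centralizer (N : Set G) := by
  have hnc : n ∉ centralizer (N : Set G) := fun h => hxc (zpowers_le.mpr h hx)
  have hle : centralizer ({n} : Set G) ≤ centralizer ({x} : Set G) := by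
    intro c hc
    obtain ⟨t, rfl⟩ := hx
    rw [mem_centralizer_singleton_iff] at hc ⊢
    exact (Commute.zpow_right hc t).eq
  refine ⟨((hH n hn hnc).le_iff_eq ?_).mp hle |>.symm, hnc⟩
  intro htop
  apply hxc
  rw [mem_centralizer_iff]
  intro c _
  have : c ∈ centralizer ({x} : Set G) := htop ▸ mem_top c
  exact mem_centralizer_singleton_iff.mp this

/-- Elements of coprime order in a centralizer centralize it. -/
theorem centralizer_le_of_coprime (hH : Hyp N) {x y : G} (hx : x ∈ N)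
    (hxc : x ∉ centralizer (N : Set G)) (hy : y ∈ cN N x) (hco : (orderOf x).Coprime (orderOf y)) :
    centralizer ({x} : Set G) ≤ centralizer ({y} : Set G) := by
  have hcom : Commute x y := (mem_cN.mp hy).2.symm
  obtain ⟨m, hmx, hmy⟩ : ∃ m : ℤ, x ^ m = x ∧ y ^ m = 1 := by
    refine ⟨(orderOf y : ℤ) * Nat.gcdB (orderOf x) (orderOf y), ?_, ?_⟩
    · have hbez := Nat.gcd_eq_gcd_ab (orderOf x) (orderOf y)
      rw [hco.gcd_eq_one, Nat.cast_one] at hbez
      conv_rhs => rw [← zpow_one x, hbez, zpow_add, zpow_mul, zpow_natCast, pow_orderOf_eq_one,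
        one_zpow, one_mul]
    · rw [zpow_mul, zpow_natCast, pow_orderOf_eq_one, one_zpow]
  have hxmem : x ∈ zpowers (x * y) := by
    refine ⟨m, ?_⟩
    show (x * y) ^ m = x
    rw [hcom.mul_zpow, hmx, hmy, mul_one]
  obtain ⟨h, -⟩ := centralizer_eq_of_mem_zpowers hH (mul_mem hx (mem_cN.mp hy).1) hxmem hxc
  rw [← h]
  intro c hc
  have hcx : Commute c x := mem_centralizer_singleton_iff.mp (h ▸ hc)
  have hcy : Commute c (x⁻¹ * (x * y)) :=
    hcx.inv_right.mul_right (mem_centralizer_singleton_iff.mp hc)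
  rw [inv_mul_cancel_left] at hcy
  exact mem_centralizer_singleton_iff.mpr hcy.eq

/-- A noncentral element has the centralizer of a noncentral element of prime power order. -/
theorem exists_rep [Finite G] (hH : Hyp N) {n : G} (hn : n ∈ N)
    (hnc : n ∉ centralizer (N : Set G)) :
    ∃ x ∈ zpowers n, ∃ p : ℕ, p.Prime ∧ (∃ i, orderOf x = p ^ i) ∧ x ∈ N ∧
      x ∉ centralizer (N : Set G) ∧ centralizer ({n} : Set G) = centralizer ({x} : Set G) := by
  by_contra hcon
  push Not at hcon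
  refine hnc (mem_of_primePow _ n fun b hb q hq hbq => ?_)
  by_contra hbc
  exact hcon b hb q hq hbq (zpowers_le.mpr hn hb) hbc
    (centralizer_eq_of_mem_zpowers hH hn hb hbc).1

/-- A second noncentral prime part in a centralizer makes it abelian. -/
theorem comm_of_coprime [Finite G] (hH : Hyp N) {p : ℕ} (hp : p.Prime) {x y : G} (hx : x ∈ N)
    (hxp : ∃ i, orderOf x = p ^ i) (hxc : x ∉ centralizer (N : Set G))
    (hy : y ∈ cN N x) (hyp : ¬ p ∣ orderOf y) (hyc : y ∉ centralizer (N : Set G)) :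
    IsMulCommutative ↥(cN N x) := by
  obtain ⟨i, hi⟩ := hxp
  have hco : ∀ z : G, ¬ p ∣ orderOf z → (orderOf x).Coprime (orderOf z) := fun z hz => by
    rw [hi]; exact (hp.coprime_iff_not_dvd.mpr hz).pow_left i
  have h1 := centralizer_le_of_coprime hH hx hxc hy (hco y hyp)
  have heq : centralizer ({x} : Set G) = centralizer ({y} : Set G) := by
    refine le_antisymm h1 (centralizer_le_of_coprime hH (mem_cN.mp hy).1 hyc ?_ (hco y hyp).symm)
    exact mem_cN.mpr ⟨hx, (mem_cN.mp hy).2.symm⟩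
  have hA : ∀ a ∈ cN N x, a ∈ centralizer ((cN N x : Subgroup G) : Set G) := by
    intro a ha
    refine mem_of_primePow _ a fun b hb q hq ⟨j, hj⟩ => ?_
    have hbA : b ∈ cN N x := zpowers_le.mpr ha hb
    have hle : centralizer ({x} : Set G) ≤ centralizer ({b} : Set G) := by
      rcases eq_or_ne q p with rfl | hqp
      · rw [heq]
        refine centralizer_le_of_coprime hH (mem_cN.mp hy).1 hyc ?_ ?_
        · exact mem_cN.mpr ⟨(mem_cN.mp hbA).1,
            mem_centralizer_singleton_iff.mp (heq ▸ hbA.2)⟩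
        · rw [hj]; exact ((hp.coprime_iff_not_dvd.mpr hyp).pow_left j).symm
      · exact centralizer_le_of_coprime hH hx hxc hbA
          (hco b (by rw [hj]; exact fun h => hqp ((Nat.prime_dvd_prime_iff_eq hp hq).mp
            (hp.dvd_of_dvd_pow h)).symm))
    rw [mem_centralizer_iff]
    intro c hc
    exact mem_centralizer_singleton_iff.mp (hle hc.2)
  exact ⟨⟨fun a b => Subtype.ext (mem_centralizer_iff.mp (hA b b.2) a a.2)⟩⟩

/-- The centralizer in `N` of an element of prime power order is nilpotent. -/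
theorem isNilpotent_cN [Finite G] (hH : Hyp N) {p : ℕ} [hp : Fact p.Prime] {x : G} (hx : x ∈ N)
    (hxp : ∃ i, orderOf x = p ^ i) (hxc : x ∉ centralizer (N : Set G)) :
    Group.IsNilpotent ↥(cN N x) := by
  refine Group.of_quotient_center_nilpotent ?_
  have hq : IsPGroup p (↥(cN N x) ⧸ center ↥(cN N x)) := by
    intro q
    obtain ⟨a, rfl⟩ := QuotientGroup.mk'_surjective _ q
    obtain ⟨k, m, hm, hkm⟩ :=
      Nat.exists_eq_pow_mul_and_not_dvd (orderOf_pos (a : G)).ne' p hp.out.ne_one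
    refine ⟨k, ?_⟩
    rw [← map_pow, QuotientGroup.mk'_apply, QuotientGroup.eq_one_iff, mem_center_iff]
    intro b
    have hord : orderOf ((a : G) ^ p ^ k) = m := by
      rw [orderOf_pow_of_dvd (pow_ne_zero _ hp.out.ne_zero) (by rw [hkm]; exact dvd_mul_right _ _),
        hkm, Nat.mul_div_cancel_left _ (pow_pos hp.out.pos k)]
    obtain ⟨i, hi⟩ := hxp
    have hle := centralizer_le_of_coprime hH hx hxc (pow_mem a.2 (p ^ k))
      (by rw [hi, hord]; exact (hp.out.coprime_iff_not_dvd.mpr hm).pow_left i)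
    apply Subtype.ext
    simpa using mem_centralizer_singleton_iff.mp (hle b.2.2)
  exact hq.isNilpotent

/-- `cN N x` is normal or self-normalizing in `N`. -/
theorem normal_or_self_normalizing [hN : N.Normal] (hH : Hyp N) {x : G} (hx : x ∈ N)
    (hxc : x ∉ centralizer (N : Set G)) :
    (cN N x).Normal ∨ ∀ n ∈ N, n ∈ normalizer ((cN N x : Subgroup G) : Set G) → n ∈ cN N x := by
  set R := N ⊓ normalizer ((cN N x : Subgroup G) : Set G) with hR
  have hle : cN N x ≤ R := le_inf (cN_le x) le_normalizer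
  have hnorm : centralizer ({x} : Set G) ≤ normalizer (R : Set G) := by
    intro c hc
    rw [mem_normalizer_iff]
    intro n
    have hc' := le_normalizer_cN (N := N) x hc
    simp only [hR, mem_inf]
    refine ⟨fun h => ⟨hN.conj_mem n h.1 c, mul_mem (mul_mem hc' h.2) (inv_mem hc')⟩,
      fun h => ⟨?_, ?_⟩⟩
    · simpa [mul_assoc] using hN.conj_mem _ h.1 c⁻¹
    · simpa [mul_assoc] using mul_mem (mul_mem (inv_mem hc') h.2) hc'
  rcases eq_or_eq hH hx hxc hle inf_le_left hnorm with h | h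
  · exact Or.inr fun n hn hn' => h ▸ ⟨hn, hn'⟩
  · refine Or.inl (normalizer_eq_top_iff.mp (eq_top_iff.mpr fun g _ => ?_))
    obtain ⟨c, hc, n, hn, rfl⟩ := exists_mul hH hx hxc g
    exact mul_mem (le_normalizer_cN x hc) (h.ge hn).2

/-- All centralizers normal: `N` modulo its centre is elementary abelian. -/
theorem elementary_of_normal [Finite G] [hN : N.Normal] (hH : Hyp N)
    (hnorm : ∀ x ∈ N, x ∉ centralizer (N : Set G) → (cN N x).Normal) :
    ∃ p : ℕ, p.Prime ∧ (∀ n ∈ N, n ^ p ∈ cZ N) ∧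
      ∀ a ∈ N, ∀ b ∈ N, a * b * a⁻¹ * b⁻¹ ∈ cZ N := by
  by_cases hab : ∀ n ∈ N, n ∈ centralizer (N : Set G)
  · refine ⟨2, Nat.prime_two, fun n hn => pow_mem (show n ∈ cZ N from ⟨hn, hab n hn⟩) 2,
      fun a ha b hb => ?_⟩
    exact mul_mem (mul_mem (mul_mem ⟨ha, hab a ha⟩ ⟨hb, hab b hb⟩)
      (inv_mem ⟨ha, hab a ha⟩)) (inv_mem ⟨hb, hab b hb⟩)
  push Not at hab
  obtain ⟨n₀, hn₀, hn₀c⟩ := hab
  obtain ⟨x₀, -, p, hp, hx₀p, hx₀, hx₀c, -⟩ := exists_rep hH hn₀ hn₀c
  haveI := Fact.mk hp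
  have hnil : Group.IsNilpotent ↥N := by
    have htop : Cfsg.fittingSubgroup ↥N = ⊤ := by
      refine eq_top_iff.mpr fun n _ => ?_
      by_cases hnc : (n : G) ∈ centralizer (N : Set G)
      · haveI : (Subgroup.center ↥N).Normal := inferInstance
        letI : CommGroup ↥(center ↥N) :=
          { (inferInstance : Group ↥(center ↥N)) with
            mul_comm := fun a b => Subtype.ext (mem_center_iff.mp b.2 a) }
        refine Solvable.le_fittingSubgroup (N := center ↥N) (CommGroup.isNilpotent (G := ↥(center ↥N))) ?_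
        rw [mem_center_iff]
        exact fun m => Subtype.ext (mem_centralizer_iff.mp hnc m m.2)
      · obtain ⟨x, -, q, hq, hxq, hx, hxc, hce⟩ := exists_rep hH n.2 hnc
        haveI := Fact.mk hq
        haveI := hnorm x hx hxc
        have hnn : Group.IsNilpotent ↥((cN N x).subgroupOf N) :=
          (Group.isNilpotent_congr (subgroupOfEquivOfLe (cN_le x))).mpr (isNilpotent_cN hH hx hxq hxc)
        refine Solvable.le_fittingSubgroup hnn ?_
        rw [mem_subgroupOf, cN, mem_inf, ← hce]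
        exact ⟨n.2, mem_centralizer_singleton_iff.mpr rfl⟩
    exact Group.isNilpotent_top.mp (htop ▸ Solvable.fittingSubgroup_isNilpotent)
  -- noncentral elements of prime power order belong to one prime
  have hone : ∀ y ∈ N, ∀ q : ℕ, q.Prime → q ≠ p → (∃ i, orderOf y = q ^ i) →
      y ∈ centralizer (N : Set G) := by
    intro y hy q hq hqp ⟨j, hj⟩
    by_contra hyc
    have key : ∀ z ∈ N, z ∉ centralizer (N : Set G) → ∀ w ∈ N,
        (orderOf z).Coprime (orderOf w) → centralizer ({z} : Set G) ≤ centralizer ({w} : Set G) :=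
      fun z hz hzc w hw hco => centralizer_le_of_coprime hH hz hzc (mem_cN.mpr ⟨hw,
        (NilpotentCover.commute_of_coprime_mem hnil hz hw hco).eq.symm⟩) hco
    obtain ⟨i, hi⟩ := hx₀p
    have hco : (orderOf x₀).Coprime (orderOf y) := by
      rw [hi, hj]; exact Nat.coprime_pow_primes _ _ hp hq (Ne.symm hqp)
    have heq : centralizer ({x₀} : Set G) = centralizer ({y} : Set G) :=
      le_antisymm (key _ hx₀ hx₀c _ hy hco) (key _ hy hyc _ hx₀ hco.symm)
    refine cN_ne_self hx₀ hx₀c (le_antisymm (cN_le _) fun n hn => ?_)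
    refine mem_of_primePow _ n fun b hb r hr ⟨l, hl⟩ => ?_
    have hbN : b ∈ N := zpowers_le.mpr hn hb
    refine mem_cN.mpr ⟨hbN, ?_⟩
    rcases eq_or_ne r p with rfl | hrp
    · have hc : (orderOf b).Coprime (orderOf y) := by
        rw [hl, hj]; exact Nat.coprime_pow_primes _ _ hr hq (Ne.symm hqp)
      have : b ∈ centralizer ({y} : Set G) := mem_centralizer_singleton_iff.mpr
        (NilpotentCover.commute_of_coprime_mem hnil hbN hy hc).eq
      exact mem_centralizer_singleton_iff.mp (heq ▸ this)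
    · have hc : (orderOf b).Coprime (orderOf x₀) := by
        rw [hl, hi]; exact Nat.coprime_pow_primes _ _ hr hp hrp
      exact (NilpotentCover.commute_of_coprime_mem hnil hbN hx₀ hc).eq
  let π := QuotientGroup.mk' (center ↥N)
  have hπ : ∀ m : ↥N, π m = 1 ↔ (m : G) ∈ cZ N := by
    intro m
    rw [QuotientGroup.mk'_apply, QuotientGroup.eq_one_iff, mem_center_iff, mem_cZ]
    exact ⟨fun h => ⟨m.2, fun n hn => congrArg Subtype.val (h ⟨n, hn⟩)⟩,
      fun h n => Subtype.ext (h.2 n n.2)⟩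
  have hQ : IsPGroup p (↥N ⧸ center ↥N) := by
    intro q
    obtain ⟨m, rfl⟩ := QuotientGroup.mk'_surjective _ q
    obtain ⟨k, t, ht, hkt⟩ :=
      Nat.exists_eq_pow_mul_and_not_dvd (orderOf_pos (m : G)).ne' p hp.ne_one
    refine ⟨k, ?_⟩
    rw [← map_pow, hπ]
    refine mem_cZ.mpr ⟨(m ^ p ^ k).2, fun n hn => mem_centralizer_iff.mp ?_ n hn⟩
    refine mem_of_primePow _ _ fun b hb r hr ⟨l, hl⟩ => ?_
    rcases eq_or_ne r p with rfl | hrp
    · have hd : orderOf b ∣ orderOf ((m : G) ^ r ^ k) := orderOf_dvd_of_mem_zpowers hb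
      rw [hl, orderOf_pow_of_dvd (pow_ne_zero _ hp.ne_zero)
        (by rw [hkt]; exact dvd_mul_right _ _), hkt,
        Nat.mul_div_cancel_left _ (pow_pos hp.pos k)] at hd
      rcases Nat.eq_zero_or_pos l with rfl | hl0
      · rw [(orderOf_eq_one_iff (x := b)).mp (by rw [hl, pow_zero])]; exact one_mem _
      · exact absurd ((dvd_pow_self r hl0.ne').trans hd) ht
    · exact hone b (zpowers_le.mpr (m ^ p ^ k).2 hb) r hr hrp ⟨l, hl⟩
  -- the Frattini subgroup of the quotient is trivial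
  set F : Subgroup G := ((frattini (↥N ⧸ center ↥N)).comap π).map N.subtype with hF
  have hFN : ∀ g : G, ∀ w ∈ F, g * w * g⁻¹ ∈ F := by
    rintro g _ ⟨w, hw, rfl⟩
    let e : MulAut ↥N := MulAut.conjNormal g
    have he : (center ↥N).map (e : ↥N →* ↥N) = center ↥N :=
      Subgroup.characteristic_iff_map_eq.mp inferInstance e
    let e' := QuotientGroup.congr (center ↥N) (center ↥N) e he
    refine ⟨e w, ?_, by simp [e, MulAut.conjNormal_apply]⟩
    show π (e w) ∈ frattini _
    have hfe : (frattini (↥N ⧸ center ↥N)).map e'.toMonoidHom = frattini _ :=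
      Subgroup.characteristic_iff_map_eq.mp inferInstance e'
    rw [← hfe]
    exact ⟨π w, hw, rfl⟩
  have hFle : ∀ z ∈ N, z ∉ centralizer (N : Set G) → F ≤ cN N z := by
    intro z hz hzc
    haveI hFn : F.Normal := ⟨fun w hw g => hFN g w hw⟩
    rcases eq_or_eq hH hz hzc (le_sup_left : _ ≤ cN N z ⊔ F)
      (sup_le (cN_le z) (map_subtype_le _)) (by
        intro c hc
        have h1 := le_normalizer_cN (N := N) z hc
        exact (normalizer_inf_normalizer_le_normalizer_sup _ _) ⟨h1, by rw [normalizer_eq_top F]; trivial⟩)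
      with h | h
    · exact h ▸ le_sup_right
    · exfalso
      refine cN_ne_self hz hzc (le_antisymm (cN_le z) fun n hn => ?_)
      have htop : ((cN N z).subgroupOf N).map π = ⊤ := by
        refine Solvable.eq_top_of_sup_frattini (eq_top_iff.mpr fun q _ => ?_)
        obtain ⟨m, rfl⟩ := QuotientGroup.mk'_surjective _ q
        have hm : (m : G) ∈ (↑(cN N z ⊔ F) : Set G) := h.ge m.2
        rw [Subgroup.mul_normal] at hm
        obtain ⟨u, hu, _, ⟨w, hw, rfl⟩, huw⟩ := hm
        have : m = ⟨u, cN_le z hu⟩ * w := Subtype.ext huw.symm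
        rw [this, map_mul]
        exact mul_mem (mem_sup_left ⟨_, hu, rfl⟩) (mem_sup_right hw)
      obtain ⟨u, hu, hue⟩ := htop.ge (mem_top (π ⟨n, hn⟩))
      have h1 : π (u⁻¹ * ⟨n, hn⟩) = 1 := by rw [map_mul, map_inv, hue, inv_mul_cancel]
      have h2 := cZ_le_cN hz ((hπ _).mp h1)
      simpa using mul_mem (show (u : G) ∈ cN N z from hu) h2
  have hFZ : ∀ w : ↥N, π w ∈ frattini (↥N ⧸ center ↥N) → (w : G) ∈ cZ N := by
    intro w hw
    refine mem_cZ.mpr ⟨w.2, fun n hn => ?_⟩
    by_cases hnc : n ∈ centralizer (N : Set G)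
    · exact (mem_centralizer_iff.mp hnc w w.2).symm
    · exact (mem_cN.mp (hFle n hn hnc ⟨w, hw, rfl⟩)).2.symm
  refine ⟨p, hp, fun n hn => ?_, fun a ha b hb => ?_⟩
  · refine hFZ (⟨n, hn⟩ ^ p) ?_
    rw [map_pow]
    exact Solvable.pow_mem_frattini hQ _
  · refine hFZ (⟨a, ha⟩ * ⟨b, hb⟩ * ⟨a, ha⟩⁻¹ * ⟨b, hb⟩⁻¹) ?_
    refine Solvable.commutator_le_frattini hQ ?_
    rw [map_mul, map_mul, map_mul, map_inv, map_inv]
    exact commutator_mem_commutator (mem_top _) (mem_top _)

end CfsgLib.MaxCentralizer
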