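import Cfsg.Agent.MaxCentralizer.Basic
import Cfsg.Agent.FrobComp.Complement
import Cfsg.Agent.FrobComp.Malnormal

/-!
The case of a self-normalizing abelian centralizer: a Frobenius group modulo the centre.
-/

set_option autoImplicit false
set_option linter.style.haveILetI false

namespace CfsgLib.MaxCentralizer

open Subgroup
open scoped Pointwise

variable {G : Type*} [Group G] {N : Subgroup G}

/-- The projection of `N` onto its central quotient. -/
abbrev proj (N : Subgroup G) : ↥N →* ↥N ⧸ center ↥N := QuotientGroup.mk' (center ↥N)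

theorem proj_eq_one_iff {m : ↥N} : proj N m = 1 ↔ (m : G) ∈ cZ N := by
  rw [proj, QuotientGroup.mk'_apply, QuotientGroup.eq_one_iff, mem_center_iff, mem_cZ]
  exact ⟨fun h => ⟨m.2, fun n hn => congrArg Subtype.val (h ⟨n, hn⟩)⟩,
    fun h n => Subtype.ext (h.2 n n.2)⟩

/-- The image of a subgroup in the central quotient of `N`. -/
def down (N R : Subgroup G) : Subgroup (↥N ⧸ center ↥N) := (R.subgroupOf N).map (proj N)

theorem mem_down_iff {R : Subgroup G} (hZ : cZ N ≤ R) {m : ↥N} :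
    proj N m ∈ down N R ↔ (m : G) ∈ R := by
  refine ⟨fun ⟨u, hu, hue⟩ => ?_, fun h => ⟨m, h, rfl⟩⟩
  have h1 : proj N (u⁻¹ * m) = 1 := by rw [map_mul, map_inv, hue, inv_mul_cancel]
  have h2 := hZ (proj_eq_one_iff.mp h1)
  simpa using mul_mem (show (u : G) ∈ R from hu) h2

/-- A nilpotent overgroup of a self-normalizing subgroup equals it. -/
theorem eq_of_self_normalizing [Finite G] {A D : Subgroup G} (hAD : A ≤ D)
    (hD : Group.IsNilpotent ↥D)
    (h : ∀ d ∈ D, d ∈ normalizer (A : Set G) → d ∈ A) : A = D := by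
  refine le_antisymm hAD ?_
  by_contra hnle
  have hne : A.subgroupOf D < ⊤ := lt_top_iff_ne_top.mpr fun htop => hnle (subgroupOf_eq_top.mp htop)
  have hlt := Group.normalizerCondition_of_isNilpotent (h := hD) (A.subgroupOf D) hne
  obtain ⟨d, hd, hdA⟩ := SetLike.exists_of_lt hlt
  refine hdA (h d d.2 ?_)
  rw [← comap_subtype, ← SetLike.mem_coe] at *
  rw [SetLike.mem_coe, mem_normalizer_iff] at hd
  rw [SetLike.mem_coe, mem_normalizer_iff]
  intro g
  constructor
  · intro hg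
    exact (hd ⟨g, hAD hg⟩).mp hg
  · intro hg
    have hgD : g ∈ D := by simpa [mul_assoc] using mul_mem (mul_mem (inv_mem d.2) (hAD hg)) d.2
    exact (hd ⟨g, hgD⟩).mpr hg

/-- A minimal power outside a subgroup. -/
theorem exists_prime_pow_mem [Finite G] (H : Subgroup G) {g : G} (hg : g ∉ H) :
    ∃ q : ℕ, q.Prime ∧ ∃ h ∈ zpowers g, h ∉ H ∧ h ^ q ∈ H := by
  classical
  have hex : ∃ m, 0 < m ∧ g ^ m ∈ H := ⟨orderOf g, orderOf_pos g, by simp [pow_orderOf_eq_one]⟩
  obtain ⟨hm0, hm⟩ := Nat.find_spec hex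
  have hm1 : Nat.find hex ≠ 1 := fun h => hg (by simpa [h] using hm)
  obtain ⟨q, hq, ⟨l, hl⟩⟩ := Nat.exists_prime_and_dvd hm1
  have hl0 : 0 < l := by
    rcases Nat.eq_zero_or_pos l with rfl | h
    · simp at hl
    · exact h
  refine ⟨q, hq, g ^ l, pow_mem (mem_zpowers g) l, fun h => ?_, ?_⟩
  · have := Nat.find_min' hex ⟨hl0, h⟩
    rw [hl] at this
    have := lt_mul_of_one_lt_left hl0 hq.one_lt
    omega
  · rw [← pow_mul, mul_comm, ← hl]; exact hm

/-- The Frobenius alternative, with its refinements. -/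
structure IsFrobeniusType (N : Subgroup G) (x : G) (K : Subgroup G) (p q : ℕ) : Prop where
  prime_p : p.Prime
  prime_q : q.Prime
  mem : x ∈ N
  notMem : x ∉ centralizer (N : Set G)
  normal : K.Normal
  center_le : cZ N ≤ K
  le : K ≤ N
  comm : ∀ a ∈ K, ∀ b ∈ K, a * b = b * a
  pow_mem : ∀ k ∈ K, k ^ p ∈ cZ N
  inf_le : cN N x ⊓ K ≤ cZ N
  exists_mul : ∀ n ∈ N, ∃ a ∈ cN N x, ∃ k ∈ K, n = a * k
  complement : Cfsg.IsFrobeniusComplement (down N (cN N x))
  kernel : (down N K : Set (↥N ⧸ center ↥N)) = Cfsg.frobeniusKernel (down N (cN N x))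
  card_complement : Nat.card ↥(down N (cN N x)) = q
  minimal : ∀ R : Subgroup G, cZ N ≤ R → R ≤ K →
    centralizer ({x} : Set G) ≤ normalizer (R : Set G) → R = cZ N ∨ R = K
  centralizer_eq : ∀ k ∈ K, k ∉ centralizer (N : Set G) → cN N k = K

theorem frobenius_of_abelian [Finite G] [hN : N.Normal] (hH : Hyp N) {x : G} (hx : x ∈ N)
    (hxc : x ∉ centralizer (N : Set G)) (hab : IsMulCommutative ↥(cN N x))
    (hself : ∀ n ∈ N, n ∈ normalizer ((cN N x : Subgroup G) : Set G) → n ∈ cN N x) :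
    ∃ (K : Subgroup G) (p q : ℕ), IsFrobeniusType N x K p q := by
  set A := cN N x with hA
  have hAN : A ≠ N := cN_ne_self hx hxc
  have hZA : cZ N ≤ A := cZ_le_cN hx
  have hZn : (cZ N).Normal := cZ_normal
  -- the centralizer of a noncentral element of `A`
  have hcent : ∀ w ∈ A, w ∉ centralizer (N : Set G) →
      centralizer ({w} : Set G) = centralizer ({x} : Set G) := by
    intro w hw hwc
    have hwN : w ∈ N := cN_le x hw
    have hAD : A ≤ cN N w := fun a ha => mem_cN.mpr ⟨cN_le x ha,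
      congrArg Subtype.val (hab.is_comm.comm ⟨a, ha⟩ ⟨w, hw⟩)⟩
    obtain ⟨v, -, r, hr, hvr, hv, hvc, hwv⟩ := exists_rep hH hwN hwc
    haveI := Fact.mk hr
    have hD : Group.IsNilpotent ↥(cN N w) := by
      rw [cN, hwv]; exact isNilpotent_cN hH hv hvr hvc
    have heq : A = cN N w := eq_of_self_normalizing hAD hD fun d hd hd' =>
      hself d (cN_le w hd) hd'
    by_contra hne
    have hnorm : centralizer ({w} : Set G) ⊔ centralizer ({x} : Set G) ≤ normalizer (A : Set G) :=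
      sup_le (heq ▸ le_normalizer_cN w) (le_normalizer_cN x)
    have htop : centralizer ({w} : Set G) ⊔ centralizer ({x} : Set G) = ⊤ := by
      refine (hH x hx hxc).2 _ (lt_of_le_of_ne le_sup_right fun h => hne ?_)
      exact (((hH w hwN hwc).le_iff_eq (hH x hx hxc).1).mp (h ▸ le_sup_left)).symm
    exact hAN (le_antisymm (cN_le x) fun n hn => hself n hn (hnorm (htop ▸ mem_top n)))
  -- the trivial intersection property
  have hTI : ∀ w ∈ A, w ∉ centralizer (N : Set G) → ∀ n ∈ N, n⁻¹ * w * n ∈ A → n ∈ A := by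
    intro w hw hwc n hn hw'
    have hw'c : n⁻¹ * w * n ∉ centralizer (N : Set G) := by
      intro h
      have := hZn.conj_mem (n⁻¹ * w * n) ⟨cN_le x hw', h⟩ n
      exact hwc (show w ∈ cZ N by simpa [mul_assoc] using this).2
    have h1 := hcent w hw hwc
    have h2 := hcent _ hw' hw'c
    refine hself n hn (mem_normalizer_iff.mpr fun a => ?_)
    have key : ∀ b : G, b ∈ centralizer ({w} : Set G) ↔
        n⁻¹ * b * n ∈ centralizer ({n⁻¹ * w * n} : Set G) := by
      intro b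
      rw [mem_centralizer_singleton_iff, mem_centralizer_singleton_iff]
      constructor
      · intro h
        calc n⁻¹ * b * n * (n⁻¹ * w * n) = n⁻¹ * (b * w) * n := by group
          _ = n⁻¹ * w * n * (n⁻¹ * b * n) := by rw [h]; group
      · intro h
        calc b * w = n * (n⁻¹ * b * n * (n⁻¹ * w * n)) * n⁻¹ := by group
          _ = w * b := by rw [h]; group
    have hmem : ∀ b : G, b ∈ A ↔ n⁻¹ * b * n ∈ A := by
      intro b
      simp only [hA, cN, mem_inf]
      rw [← h1, key b, h2, ← h1]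
      refine and_congr_left fun _ => ⟨fun h => mul_mem (mul_mem (inv_mem hn) h) hn, fun h => ?_⟩
      simpa [mul_assoc] using mul_mem (mul_mem hn h) (inv_mem hn)
    have := hmem (n * a * n⁻¹)
    simpa [mul_assoc] using this.symm
  have hC : Cfsg.IsFrobeniusComplement (down N A) := by
    refine ⟨fun h => ?_, fun h => ?_, fun g hg => ?_⟩
    · have : proj N ⟨x, hx⟩ ∈ down N A := (mem_down_iff hZA).mpr (self_mem_cN hx)
      rw [h, mem_bot, proj_eq_one_iff] at this
      exact hxc this.2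
    · exact hAN (le_antisymm (cN_le x) fun n hn =>
        (mem_down_iff hZA (m := ⟨n, hn⟩)).mp (h ▸ mem_top _))
    · obtain ⟨m, rfl⟩ := QuotientGroup.mk'_surjective _ g
      rw [eq_bot_iff]
      rintro z ⟨hz1, hz2⟩
      obtain ⟨w, rfl⟩ := QuotientGroup.mk'_surjective _ z
      change proj N w ∈ MulAut.conj (proj N m) • down N A at hz2
      rw [FrobComp.smul_mem_iff, ← map_inv, ← map_mul, ← map_mul, mem_down_iff hZA] at hz2
      change proj N w ∈ down N A at hz1
      rw [mem_down_iff hZA] at hz1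
      rw [mem_bot]
      change proj N w = 1
      rw [proj_eq_one_iff]
      refine ⟨w.2, ?_⟩
      by_contra hwc
      exact hg ((mem_down_iff hZA).mpr (hTI _ hz1 hwc m m.2 (by simpa using hz2)))
  obtain ⟨Kb, hKbn, hKbc, hKbk⟩ := FrobComp.exists_kernel hC
  set K := (Kb.comap (proj N)).map N.subtype with hK
  have hKN : K ≤ N := map_subtype_le _
  have hmemK : ∀ m : ↥N, (m : G) ∈ K ↔ proj N m ∈ Kb := by
    intro m
    refine ⟨fun ⟨u, hu, hue⟩ => ?_, fun h => ⟨m, h, rfl⟩⟩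
    obtain rfl : u = m := Subtype.ext hue
    exact hu
  have hKiff : ∀ m : ↥N, (m : G) ∈ K ↔
      ((m : G) ∈ cZ N ∨ ∀ u ∈ N, u⁻¹ * (m : G) * u ∉ A) := by
    intro m
    rw [hmemK, ← SetLike.mem_coe, hKbk, FrobComp.mem_kernel_iff, proj_eq_one_iff]
    refine or_congr Iff.rfl ⟨fun h u hu hmu => ?_, fun h g => ?_⟩
    · refine h (proj N ⟨u, hu⟩) ?_
      rw [← map_inv, ← map_mul, ← map_mul, mem_down_iff hZA]
      simpa using hmu
    · obtain ⟨u, rfl⟩ := QuotientGroup.mk'_surjective _ g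
      rw [← map_inv, ← map_mul, ← map_mul, mem_down_iff hZA]
      simpa using h u u.2
  have hZK : cZ N ≤ K := fun z hz => (hKiff ⟨z, hz.1⟩).mpr (Or.inl hz)
  have hAK : A ⊓ K ≤ cZ N := by
    rintro z ⟨hzA, hzK⟩
    rcases (hKiff ⟨z, hKN hzK⟩).mp hzK with h | h
    · exact h
    · exact absurd (by simpa using hzA) (h 1 (one_mem _))
  have hKnormal : K.Normal := by
    refine ⟨fun k hk g => ?_⟩
    obtain ⟨c, hc, n, hn, rfl⟩ := exists_mul hH hx hxc g
    have h1 : n * k * n⁻¹ ∈ K := by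
      refine (hmemK (⟨n, hn⟩ * ⟨k, hKN hk⟩ * ⟨n, hn⟩⁻¹)).mpr ?_
      rw [map_mul, map_mul, map_inv]
      exact hKbn.conj_mem _ ((hmemK ⟨k, hKN hk⟩).mp hk) _
    have h2 : c * (n * k * n⁻¹) * c⁻¹ ∈ N := hN.conj_mem _ (hKN h1) c
    have h3 : c * (n * k * n⁻¹) * c⁻¹ ∈ K := by
      refine (hKiff ⟨_, h2⟩).mpr ?_
      rcases (hKiff ⟨_, hKN h1⟩).mp h1 with h | h
      · exact Or.inl (hZn.conj_mem _ h c)
      · refine Or.inr fun u hu hu' => h (c⁻¹ * u * c) ?_ ?_
        · simpa using hN.conj_mem u hu c⁻¹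
        · have := (mem_normalizer_iff.mp (inv_mem (le_normalizer_cN (N := N) x hc)) _).mp hu'
          simpa [mul_assoc] using this
    simpa [mul_assoc] using h3
  have hmulN : ∀ n ∈ N, ∃ a ∈ A, ∃ k ∈ K, n = a * k := by
    intro n hn
    obtain ⟨⟨k, a⟩, hka, -⟩ := (isComplement_iff_existsUnique.mp hKbc) (proj N ⟨n, hn⟩)
    obtain ⟨u, hu, hue⟩ := a.2
    have hk : n * (u : G)⁻¹ ∈ K := by
      refine (hmemK (⟨n, hn⟩ * u⁻¹)).mpr ?_
      rw [map_mul, map_inv, ← hka, hue]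
      simp
    exact ⟨u, hu, (u : G)⁻¹ * n, by simpa [mul_assoc] using hKnormal.conj_mem _ hk (u : G)⁻¹,
      by group⟩
  have hNK : K ≠ N := fun h => hxc (hAK ⟨self_mem_cN hx, h ▸ hx⟩).2
  -- the kernel is the centralizer of each of its noncentral elements
  have hcK : ∀ k ∈ K, k ∉ centralizer (N : Set G) → cN N k = K := by
    intro k hk hkc
    have hle : cN N k ≤ K := by
      intro b hb
      by_contra hbK
      have hb' : ¬ (b ∈ cZ N ∨ ∀ u ∈ N, u⁻¹ * b * u ∉ A) := fun h =>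
        hbK ((hKiff ⟨b, cN_le k hb⟩).mpr h)
      push Not at hb'
      obtain ⟨hbZ, u, hu, hua⟩ := hb'
      have hac : u⁻¹ * b * u ∉ centralizer (N : Set G) := fun h => hbZ (by
        simpa [mul_assoc] using hZn.conj_mem (u⁻¹ * b * u) ⟨cN_le x hua, h⟩ u)
      have hkA : u⁻¹ * k * u ∈ A := by
        refine mem_cN.mpr ⟨mul_mem (mul_mem (inv_mem hu) (hKN hk)) hu,
          mem_centralizer_singleton_iff.mp (hcent _ hua hac ▸ ?_)⟩
        rw [mem_centralizer_singleton_iff]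
        calc u⁻¹ * k * u * (u⁻¹ * b * u) = u⁻¹ * (k * b) * u := by group
          _ = u⁻¹ * b * u * (u⁻¹ * k * u) := by rw [← (mem_cN.mp hb).2]; group
      have hkZ := hAK ⟨hkA, by simpa [mul_assoc] using hKnormal.conj_mem k hk u⁻¹⟩
      exact hkc (by simpa [mul_assoc] using hZn.conj_mem _ hkZ u : k ∈ cZ N).2
    rcases eq_or_eq hH (hKN hk) hkc hle hKN (by rw [normalizer_eq_top K]; exact le_top) with h | h
    · exact h.symm
    · exact absurd h hNK
  have hKcomm : ∀ a ∈ K, ∀ b ∈ K, a * b = b * a := by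
    intro a ha b hb
    by_cases hac : a ∈ centralizer (N : Set G)
    · exact (mem_centralizer_iff.mp hac b (hKN hb)).symm
    · exact ((mem_cN.mp ((hcK a ha hac).ge hb)).2).symm
  obtain ⟨k₀, hk₀, hk₀Z⟩ : ∃ k ∈ K, k ∉ cZ N := by
    by_contra hcon
    push Not at hcon
    refine hAN (le_antisymm (cN_le x) fun n hn => ?_)
    obtain ⟨a, ha, k, hk, rfl⟩ := hmulN n hn
    exact mul_mem ha (hZA (hcon k hk))
  obtain ⟨p, hp, k₁, hk₁, hk₁Z, hk₁p⟩ := exists_prime_pow_mem _ hk₀Z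
  have hk₁K : k₁ ∈ K := zpowers_le.mpr hk₀ hk₁
  -- elements of order dividing `p` modulo the centre
  have hpow : ∀ k ∈ K, k ^ p ∈ cZ N := by
    let Ω : Subgroup G :=
      { carrier := {k | k ∈ K ∧ k ^ p ∈ cZ N}
        one_mem' := ⟨one_mem _, by simp⟩
        mul_mem' := fun {a b} ha hb => ⟨mul_mem ha.1 hb.1, by
          rw [(show Commute a b from hKcomm a ha.1 b hb.1).mul_pow]; exact mul_mem ha.2 hb.2⟩
        inv_mem' := fun {a} ha => ⟨inv_mem ha.1, by rw [inv_pow]; exact inv_mem ha.2⟩ }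
    haveI hΩn : Ω.Normal := ⟨fun k hk g =>
      ⟨hKnormal.conj_mem k hk.1 g, by rw [conj_pow]; exact hZn.conj_mem _ hk.2 g⟩⟩
    rcases eq_or_eq hH hx hxc (le_sup_left : _ ≤ A ⊔ Ω)
      (sup_le (cN_le x) fun k hk => hKN hk.1)
      (fun c hc => normalizer_inf_normalizer_le_normalizer_sup _ _
        ⟨le_normalizer_cN x hc, by rw [normalizer_eq_top Ω]; trivial⟩) with h | h
    · exact absurd (hAK ⟨h.le (mem_sup_right (show k₁ ∈ Ω from ⟨hk₁K, hk₁p⟩)), hk₁K⟩) hk₁Z
    · intro k hk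
      have hm : k ∈ (↑(A ⊔ Ω) : Set G) := h.ge (hKN hk)
      rw [mul_normal] at hm
      obtain ⟨a, ha, w, hw, rfl⟩ := hm
      have haZ := hAK ⟨ha, by simpa using mul_mem hk (inv_mem hw.1)⟩
      rw [(show Commute a w from (mem_cZ.mp haZ).2 w (hKN hw.1) |>.symm).mul_pow]
      exact mul_mem (Subgroup.pow_mem _ haZ p) hw.2
  have hxZ : x ∉ cZ N := fun h => hxc h.2
  obtain ⟨q, hq, x₁, hx₁, hx₁Z, hx₁q⟩ := exists_prime_pow_mem _ hxZ
  have hx₁A : x₁ ∈ A := zpowers_le.mpr (self_mem_cN hx) hx₁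
  have hgen : ∀ a ∈ A, ∃ t : ℤ, x₁ ^ t * a ∈ cZ N := by
    haveI := hKnormal
    haveI hRn : (zpowers x₁ ⊔ K).Normal := by
      rw [← normalizer_eq_top_iff, eq_top_iff]
      intro g _
      obtain ⟨c, hc, n, hn, rfl⟩ := exists_mul hH hx hxc g
      obtain ⟨a, ha, k, hk, rfl⟩ := hmulN n hn
      have hfix : ∀ d ∈ centralizer ({x} : Set G),
          d ∈ normalizer ((zpowers x₁ : Subgroup G) : Set G) := by
        intro d hd
        refine Subgroup.centralizer_le_normalizer _ ?_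
        rw [mem_centralizer_iff]
        rintro _ ⟨t, rfl⟩
        obtain ⟨l, rfl⟩ := hx₁
        exact (((show Commute d x from mem_centralizer_singleton_iff.mp hd).zpow_right l).zpow_right t).eq.symm
      have hK' : ∀ d : G, d ∈ normalizer (K : Set G) := fun d => by
        rw [normalizer_eq_top K]; trivial
      have h1 : c * a ∈ normalizer ((zpowers x₁ ⊔ K : Subgroup G) : Set G) :=
        normalizer_inf_normalizer_le_normalizer_sup _ _
          ⟨hfix _ (mul_mem hc ha.2), hK' _⟩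
      rw [← mul_assoc]
      exact mul_mem h1 (le_normalizer (mem_sup_right hk))
    rcases eq_or_eq hH (hKN hk₀) (fun h => hk₀Z ⟨hKN hk₀, h⟩)
      ((hcK k₀ hk₀ fun h => hk₀Z ⟨hKN hk₀, h⟩).trans_le le_sup_right)
      (sup_le (zpowers_le.mpr (cN_le x hx₁A)) hKN)
      (by rw [normalizer_eq_top (zpowers x₁ ⊔ K)]; exact le_top) with h | h
    · rw [hcK k₀ hk₀ fun h => hk₀Z ⟨hKN hk₀, h⟩] at h
      exact absurd (hAK ⟨hx₁A, h.le (mem_sup_left (mem_zpowers x₁))⟩) hx₁Z
    · intro a ha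
      have hm : a ∈ (↑(zpowers x₁ ⊔ K) : Set G) := h.ge (cN_le x ha)
      rw [mul_normal] at hm
      obtain ⟨_, ⟨t, rfl⟩, k, hk, rfl⟩ := hm
      refine ⟨-t, hAK ?_⟩
      simp only [← mul_assoc, ← zpow_add, neg_add_cancel, zpow_zero, one_mul]
      exact ⟨by simpa using mul_mem (inv_mem (zpow_mem hx₁A t)) ha, hk⟩
  have hcard : Nat.card ↥(down N A) = q := by
    set y := proj N ⟨x₁, cN_le x hx₁A⟩ with hy
    have hdown : down N A = zpowers y := by
      refine le_antisymm ?_ (zpowers_le.mpr ((mem_down_iff hZA).mpr hx₁A))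
      rintro _ ⟨m, hm, rfl⟩
      obtain ⟨t, ht⟩ := hgen m hm
      refine ⟨-t, ?_⟩
      have h1 : proj N (⟨x₁, cN_le x hx₁A⟩ ^ t * m) = 1 := proj_eq_one_iff.mpr (by simpa using ht)
      rw [map_mul, map_zpow, mul_eq_one_iff_inv_eq, ← zpow_neg] at h1
      exact h1
    haveI := Fact.mk hq
    rw [hdown, Nat.card_zpowers]
    refine orderOf_eq_prime ?_ ?_
    · rw [hy, ← map_pow, proj_eq_one_iff]; simpa using hx₁q
    · rw [hy, Ne, proj_eq_one_iff]; exact hx₁Z
  refine ⟨K, p, q, ⟨hp, hq, hx, hxc, hKnormal, hZK, hKN, hKcomm, hpow, hAK, hmulN, hC, ?_, hcard,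
    ?_, hcK⟩⟩
  · rw [← hKbk]
    congr 1
    ext z
    obtain ⟨m, rfl⟩ := QuotientGroup.mk'_surjective _ z
    rw [← hmemK m]
    exact mem_down_iff hZK
  · intro R hZR hRK hR
    rcases eq_or_eq hH hx hxc (le_sup_left : _ ≤ A ⊔ R) (sup_le (cN_le x) (hRK.trans hKN))
      (fun c hc => normalizer_inf_normalizer_le_normalizer_sup _ _
        ⟨le_normalizer_cN x hc, hR hc⟩) with h | h
    · exact Or.inl (le_antisymm (fun r hr => hAK ⟨h.le (mem_sup_right hr), hRK hr⟩) hZR)
    · refine Or.inr (le_antisymm hRK fun k hk => ?_)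
      have hm : k ∈ (↑(A ⊔ R) : Set G) := h.ge (hKN hk)
      rw [coe_mul_of_left_le_normalizer_right A R (fun a ha => hR ha.2)] at hm
      obtain ⟨a, ha, r, hr, rfl⟩ := hm
      exact mul_mem (hZR (hAK ⟨ha, by simpa using mul_mem hk (inv_mem (hRK hr))⟩)) hr

end CfsgLib.MaxCentralizer
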