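import Cfsg.Agent.MaxCentralizer.Structure

/-!
A prime order complement acting irreducibly on an elementary abelian group gives a minimal
nonabelian group.
-/

set_option autoImplicit false
set_option linter.style.haveILetI false

namespace CfsgLib.MaxCentralizer

open Subgroup

variable {Q : Type*} [Group Q] [Finite Q]

theorem minimal_nonabelian {C K : Subgroup Q} {p q : ℕ} (hp : p.Prime) (hq : q.Prime)
    (hpq : p ≠ q) (hKn : K.Normal) (hcompl : K.IsComplement' C) (hC : Nat.card ↥C = q)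
    (hCn : ¬ C.Normal) (hcomm : ∀ a ∈ K, ∀ b ∈ K, a * b = b * a) (hpow : ∀ k ∈ K, k ^ p = 1)
    (hmin : ∀ R : Subgroup Q, R ≤ K → C ≤ normalizer (R : Set Q) → R = ⊥ ∨ R = K) :
    ¬ IsMulCommutative Q ∧ (∀ H : Subgroup Q, H ≠ ⊤ → IsMulCommutative ↥H) ∧
      ∃ p' q' a : ℕ, p'.Prime ∧ q'.Prime ∧ p' ≠ q' ∧ Nat.card Q = p' ^ a * q' ∧
        ∀ P : Subgroup Q, Nat.card ↥P = p' ^ a → P.Normal := by
  haveI := Fact.mk hp
  haveI := Fact.mk hq
  have hKp : IsPGroup p ↥K := fun k => ⟨1, Subtype.ext (by simpa using hpow k k.2)⟩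
  obtain ⟨a, ha⟩ := hKp.exists_card_eq
  have hidx : K.index = q := hcompl.symm.index_eq_card.trans hC
  have hcard : Nat.card Q = p ^ a * q := by rw [← K.card_mul_index, ha, hidx]
  refine ⟨fun hab => hCn ⟨fun c hc g => by rw [hab.is_comm.comm g c, mul_inv_cancel_right]; exact hc⟩,
    fun H hH => ?_, p, q, a, hp, hq, hpq, hcard, fun P hP => ?_⟩
  · have hsub : ∀ h ∈ H, ∀ h' ∈ H, h ∈ K → h' ∈ K → h * h' = h' * h :=
      fun h _ h' _ hk hk' => hcomm h hk h' hk'
    by_cases hHK : H ≤ K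
    · exact ⟨⟨fun u v => Subtype.ext (hsub u u.2 v v.2 (hHK u.2) (hHK v.2))⟩⟩
    obtain ⟨h, hh, hhK⟩ := SetLike.not_le_iff_exists.mp hHK
    obtain ⟨⟨k, c⟩, hkc, -⟩ := isComplement_iff_existsUnique.mp hcompl h
    have hc1 : (c : Q) ≠ 1 := fun e => hhK (by rw [← hkc]; simp [e])
    have hgen : C = zpowers (c : Q) := by
      refine (Subgroup.eq_of_le_of_card_ge (zpowers_le.mpr c.2) ?_).symm
      rw [hC, Nat.card_zpowers]
      refine Nat.le_of_dvd (orderOf_pos _) ?_
      rcases (Nat.dvd_prime hq).mp (hC ▸ C.orderOf_dvd_natCard c.2) with h1 | h1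
      · exact absurd (orderOf_eq_one_iff.mp h1) hc1
      · rw [h1]
    have hR : C ≤ normalizer ((H ⊓ K : Subgroup Q) : Set Q) := by
      rw [hgen, zpowers_le]
      have hk : (k : Q) ∈ normalizer ((H ⊓ K : Subgroup Q) : Set Q) := by
        refine centralizer_le_normalizer _ ?_
        rw [mem_centralizer_iff]
        exact fun y hy => hcomm y hy.2 k k.2
      have hh' : h ∈ normalizer ((H ⊓ K : Subgroup Q) : Set Q) :=
        mem_normalizer_fintype fun y hy =>
          ⟨H.mul_mem (H.mul_mem hh hy.1) (H.inv_mem hh), hKn.conj_mem y hy.2 h⟩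
      rw [show (c : Q) = (k : Q)⁻¹ * h by rw [← hkc]; simp]
      exact mul_mem (inv_mem hk) hh'
    rcases hmin _ inf_le_right hR with h0 | h1
    · haveI hinj : Function.Injective ((QuotientGroup.mk' K).comp H.subtype) := by
        rw [← MonoidHom.ker_eq_bot_iff, eq_bot_iff]
        intro y hy
        have : (y : Q) ∈ H ⊓ K := ⟨y.2, (QuotientGroup.eq_one_iff _).mp hy⟩
        rw [h0, mem_bot] at this
        exact Subtype.ext this
      haveI : IsCyclic (Q ⧸ K) := isCyclic_of_prime_card (p := q) (by rw [← index_eq_card, hidx])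
      haveI : IsCyclic ↥H := isCyclic_of_injective _ hinj
      letI := IsCyclic.commGroup (α := ↥H)
      exact ⟨⟨mul_comm⟩⟩
    · refine absurd (eq_top_iff.mpr fun g _ => ?_) hH
      have hKH : K ≤ H := h1 ▸ inf_le_left
      obtain ⟨⟨k', c'⟩, hkc', -⟩ := isComplement_iff_existsUnique.mp hcompl g
      have hcH : (c : Q) ∈ H := by
        rw [show (c : Q) = (k : Q)⁻¹ * h by rw [← hkc]; simp]
        exact mul_mem (inv_mem (hKH k.2)) hh
      rw [← hkc']
      refine mul_mem (hKH k'.2) ?_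
      exact zpowers_le.mpr hcH (hgen ▸ c'.2)
  · suffices P = K by rw [this]; exact hKn
    refine Subgroup.eq_of_le_of_card_ge (fun x hx => ?_) (by rw [hP, ha])
    rw [← QuotientGroup.eq_one_iff, ← orderOf_eq_one_iff, ← Nat.dvd_one]
    have h1 : orderOf (QuotientGroup.mk' K x) ∣ p ^ a :=
      (orderOf_map_dvd _ _).trans (hP ▸ P.orderOf_dvd_natCard hx)
    have h2 : orderOf (QuotientGroup.mk' K x) ∣ q := by
      rw [← hidx, index_eq_card]; exact orderOf_dvd_natCard _
    have := Nat.dvd_gcd h1 h2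
    rwa [((Nat.coprime_primes hp hq).mpr hpq).pow_left a |>.gcd_eq_one] at this

end CfsgLib.MaxCentralizer
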