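import Cfsg.Agent.MaxCentralizer.Frobenius
import Cfsg.Agent.Transfer.GlaubermanThompson
import Cfsg.Agent.OddOrder.ZJ.Main
import Cfsg.Agent.SolvCrit.ZJBasic
import Cfsg.Agent.PLocal.Thompson

/-!
The structure theorem: `N` modulo its centre is elementary abelian or a Frobenius group.
-/

set_option autoImplicit false
set_option linter.style.haveILetI false

namespace CfsgLib.MaxCentralizer

open Subgroup

universe u

variable {G : Type u} [Group G] {N : Subgroup G}

/-- Preimage of a subgroup of the central quotient. -/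
def up (N : Subgroup G) (X : Subgroup (↥N ⧸ center ↥N)) : Subgroup G :=
  (X.comap (proj N)).map N.subtype

theorem mem_up_iff {X : Subgroup (↥N ⧸ center ↥N)} {m : ↥N} :
    (m : G) ∈ up N X ↔ proj N m ∈ X := by
  refine ⟨fun ⟨u, hu, hue⟩ => ?_, fun h => ⟨m, h, rfl⟩⟩
  obtain rfl : u = m := Subtype.ext hue
  exact hu

theorem up_le (X : Subgroup (↥N ⧸ center ↥N)) : up N X ≤ N := map_subtype_le _

theorem cZ_le_up (X : Subgroup (↥N ⧸ center ↥N)) : cZ N ≤ up N X := fun z hz =>
  (mem_up_iff (m := ⟨z, hz.1⟩)).mpr (by rw [proj_eq_one_iff.mpr hz]; exact one_mem _)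

theorem down_le_iff {R : Subgroup G} {X : Subgroup (↥N ⧸ center ↥N)} (hR : R ≤ N) :
    down N R ≤ X ↔ R ≤ up N X := by
  refine ⟨fun h r hr => (mem_up_iff (m := ⟨r, hR hr⟩)).mpr (h ⟨_, hr, rfl⟩), ?_⟩
  rintro h _ ⟨m, hm, rfl⟩
  exact mem_up_iff.mp (h hm)

/-- The automorphism of the central quotient induced by an element of `G`. -/
noncomputable def actAut (N : Subgroup G) [N.Normal] (g : G) :
    (↥N ⧸ center ↥N) ≃* (↥N ⧸ center ↥N) :=
  QuotientGroup.congr (center ↥N) (center ↥N) (MulAut.conjNormal g)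
    (Subgroup.characteristic_iff_map_eq.mp inferInstance (MulAut.conjNormal g))

theorem actAut_proj [N.Normal] (g : G) (m : ↥N) :
    actAut N g (proj N m) = proj N (MulAut.conjNormal g m) := rfl

/-- `up` of a subgroup invariant under `actAut` is normalized. -/
theorem mem_normalizer_up [hN : N.Normal] [Finite G] {X : Subgroup (↥N ⧸ center ↥N)} {g : G}
    (h : X.map (actAut N g).toMonoidHom = X) : g ∈ normalizer ((up N X : Subgroup G) : Set G) := by
  refine mem_normalizer_fintype fun y hy => ?_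
  obtain ⟨m, hm, rfl⟩ := hy
  refine ⟨MulAut.conjNormal g m, ?_, by simp [MulAut.conjNormal_apply]⟩
  show proj N _ ∈ X
  rw [← actAut_proj, ← h]
  exact ⟨_, hm, rfl⟩

theorem map_actAut_down [hN : N.Normal] [Finite G] {R : Subgroup G} {g : G} (hR : R ≤ N)
    (hZ : cZ N ≤ R) (hg : g ∈ normalizer (R : Set G)) :
    (down N R).map (actAut N g).toMonoidHom = down N R := by
  refine Subgroup.eq_of_le_of_card_ge ?_ (le_of_eq ?_)
  · rintro _ ⟨_, ⟨m, hm, rfl⟩, rfl⟩
    refine ⟨MulAut.conjNormal g m, ?_, (actAut_proj g m).symm⟩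
    simpa [mem_subgroupOf, MulAut.conjNormal_apply] using (mem_normalizer_iff.mp hg m).mp hm
  · exact Nat.card_congr
      (equivMapOfInjective (down N R) _ (actAut N g).injective).toEquiv

/-- The image of a self-normalizing centralizer that is a `p`-group is a Sylow subgroup. -/
theorem exists_sylow_eq_down [Finite G] {A : Subgroup G} {p : ℕ} [Fact p.Prime]
    (hZ : cZ N ≤ A) (hAN : A ≤ N) (hp : IsPGroup p ↥(down N A))
    (hself : ∀ n ∈ N, n ∈ normalizer (A : Set G) → n ∈ A) :
    ∃ S : Sylow p (↥N ⧸ center ↥N), (S : Subgroup _) = down N A := by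
  obtain ⟨S, hS⟩ := hp.exists_le_sylow
  refine ⟨S, (eq_of_self_normalizing hS S.isPGroup'.isNilpotent ?_).symm⟩
  intro q _ hq
  obtain ⟨m, rfl⟩ := QuotientGroup.mk'_surjective _ q
  refine (mem_down_iff hZ).mpr (hself m m.2 (mem_normalizer_fintype fun a ha => ?_))
  have h := (mem_normalizer_iff.mp hq (proj N ⟨a, hAN ha⟩)).mp ((mem_down_iff hZ).mpr ha)
  rw [← map_inv, ← map_mul, ← map_mul, mem_down_iff hZ] at h
  simpa using h

/-- A nonabelian centralizer of a `p`-element maps to a `p`-group. -/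
theorem isPGroup_down [Finite G] (hH : Hyp N) {p : ℕ} [hp : Fact p.Prime] {x : G} (hx : x ∈ N)
    (hxp : ∃ i, orderOf x = p ^ i) (hxc : x ∉ centralizer (N : Set G))
    (hnab : ¬ IsMulCommutative ↥(cN N x)) : IsPGroup p ↥(down N (cN N x)) := by
  rintro ⟨_, m, hm, rfl⟩
  obtain ⟨k, t, ht, hkt⟩ :=
    Nat.exists_eq_pow_mul_and_not_dvd (orderOf_pos (m : G)).ne' p hp.out.ne_one
  refine ⟨k, Subtype.ext ?_⟩
  show proj N m ^ p ^ k = 1
  rw [← map_pow, proj_eq_one_iff]
  refine ⟨(m ^ p ^ k).2, ?_⟩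
  by_contra hc
  refine hnab (comm_of_coprime hH hp.out hx hxp hxc (y := (m : G) ^ p ^ k)
    (pow_mem (show (m : G) ∈ cN N x from hm) _) ?_ (by simpa using hc))
  rwa [orderOf_pow_of_dvd (pow_ne_zero _ hp.out.ne_zero) (by rw [hkt]; exact dvd_mul_right _ _),
    hkt, Nat.mul_div_cancel_left _ (pow_pos hp.out.pos k)]

/-- A nonabelian self-normalizing centralizer excludes a normal centralizer for another prime. -/
theorem false_of_normal [Finite G] [hN : N.Normal] (hH : Hyp N) {p q : ℕ} (hp : p.Prime)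
    (hq : q.Prime) (hpq : p ≠ q) {x y : G} (hx : x ∈ N) (hxp : ∃ i, orderOf x = p ^ i)
    (hxc : x ∉ centralizer (N : Set G)) (hnab : ¬ IsMulCommutative ↥(cN N x))
    (hy : y ∈ N) (hyq : ∃ j, orderOf y = q ^ j) (hyc : y ∉ centralizer (N : Set G))
    (hCn : (cN N y).Normal) : False := by
  obtain ⟨i, hi⟩ := hxp
  obtain ⟨j, hj⟩ := hyq
  have hqy : ¬ p ∣ orderOf y := by
    rw [hj]; exact fun h => hpq ((Nat.prime_dvd_prime_iff_eq hp hq).mp (hp.dvd_of_dvd_pow h))
  have hyA : y ∉ cN N x := fun h => hnab (comm_of_coprime hH hp hx ⟨i, hi⟩ hxc h hqy hyc)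
  have hint : cN N x ⊓ cN N y ≤ cZ N := by
    intro z hz
    refine ⟨cN_le x hz.1, mem_of_primePow _ z fun b hb r hr ⟨l, hl⟩ => ?_⟩
    by_contra hbc
    have hbA : b ∈ cN N x := zpowers_le.mpr hz.1 hb
    have hbC : b ∈ cN N y := zpowers_le.mpr hz.2 hb
    rcases eq_or_ne r p with rfl | hrp
    · have hco : (orderOf y).Coprime (orderOf b) := by
        rw [hj, hl]; exact Nat.coprime_pow_primes _ _ hq hr (Ne.symm hpq)
      have h1 := centralizer_le_of_coprime hH (cN_le x hbA) hbc
        (mem_cN.mpr ⟨hy, (mem_cN.mp hbC).2.symm⟩) hco.symm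
      have hxb : x ∈ centralizer ({b} : Set G) :=
        mem_centralizer_singleton_iff.mpr (mem_cN.mp hbA).2.symm
      exact hyA (mem_cN.mpr ⟨hy, (mem_centralizer_singleton_iff.mp (h1 hxb)).symm⟩)
    · refine hnab (comm_of_coprime hH hp hx ⟨i, hi⟩ hxc hbA ?_ hbc)
      rw [hl]
      exact fun h => hrp ((Nat.prime_dvd_prime_iff_eq hp hr).mp (hp.dvd_of_dvd_pow h)).symm
  haveI := hCn
  have hmulN : ∀ n ∈ N, ∃ a ∈ cN N x, ∃ c ∈ cN N y, n = a * c := by
    rcases eq_or_eq hH hx hxc (le_sup_left : _ ≤ cN N x ⊔ cN N y) (sup_le (cN_le x) (cN_le y))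
      (fun c hc => normalizer_inf_normalizer_le_normalizer_sup _ _
        ⟨le_normalizer_cN x hc, by rw [normalizer_eq_top (cN N y)]; trivial⟩) with h | h
    · exact absurd (h.le (mem_sup_right (self_mem_cN hy))) hyA
    · intro n hn
      have hm : n ∈ (↑(cN N x ⊔ cN N y) : Set G) := h.ge hn
      rw [mul_normal] at hm
      obtain ⟨a, ha, c, hc, rfl⟩ := hm
      exact ⟨a, ha, c, hc, rfl⟩
  haveI hRn : (zpowers x ⊔ cN N y).Normal := by
    rw [← normalizer_eq_top_iff, eq_top_iff]
    intro g _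
    obtain ⟨c, hc, n, hn, rfl⟩ := exists_mul hH hx hxc g
    obtain ⟨a, ha, d, hd, rfl⟩ := hmulN n hn
    have h0 : c * a ∈ normalizer ((zpowers x : Subgroup G) : Set G) := by
      refine Subgroup.centralizer_le_normalizer _ ?_
      rw [mem_centralizer_iff]
      rintro _ ⟨t, rfl⟩
      exact ((show Commute (c * a) x from
        mem_centralizer_singleton_iff.mp (mul_mem hc ha.2)).zpow_right t).eq.symm
    have h1 : c * a ∈ normalizer ((zpowers x ⊔ cN N y : Subgroup G) : Set G) :=
      normalizer_inf_normalizer_le_normalizer_sup _ _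
        ⟨h0, by rw [normalizer_eq_top (cN N y)]; trivial⟩
    rw [← mul_assoc]
    exact mul_mem h1 (le_normalizer (mem_sup_right hd))
  rcases eq_or_eq hH hy hyc (le_sup_right : _ ≤ zpowers x ⊔ cN N y)
    (sup_le (zpowers_le.mpr hx) (cN_le y))
    (by rw [normalizer_eq_top (zpowers x ⊔ cN N y)]; exact le_top) with h | h
  · exact hxc (hint ⟨self_mem_cN hx, h.le (mem_sup_left (mem_zpowers x))⟩).2
  · refine hnab ⟨⟨fun a b => Subtype.ext ?_⟩⟩
    have key : ∀ a ∈ cN N x, ∃ t : ℤ, ∃ z ∈ cZ N, a = x ^ t * z := by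
      intro a ha
      have hm : a ∈ (↑(zpowers x ⊔ cN N y) : Set G) := h.ge (cN_le x ha)
      rw [mul_normal] at hm
      obtain ⟨_, ⟨t, rfl⟩, c, hc, rfl⟩ := hm
      exact ⟨t, c, hint ⟨by simpa using mul_mem (inv_mem (zpow_mem (self_mem_cN hx) t)) ha, hc⟩,
        rfl⟩
    obtain ⟨t, z, hz, hzt⟩ := key a a.2
    obtain ⟨t', z', hz', hzt'⟩ := key b b.2
    show (a : G) * b = b * a
    rw [hzt, hzt']
    have hcomm : ∀ w ∈ cZ N, ∀ n ∈ N, Commute n w := fun w hw n hn => (mem_cZ.mp hw).2 n hn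
    exact ((((Commute.refl x).zpow_zpow t t').mul_right
      (hcomm z' hz' _ (zpow_mem hx t))).mul_left
      (((hcomm z hz _ (zpow_mem hx t')).symm).mul_right (hcomm z' hz' _ hz.1))).eq

/-- Two nonabelian self-normalizing centralizers for different primes, one odd, are impossible. -/
theorem false_of_two [Finite G] [hN : N.Normal] (hH : Hyp N) {r s : ℕ} (hr : r.Prime)
    (hs : s.Prime) (hrs : r ≠ s) (hr2 : r ≠ 2) {x y : G}
    (hx : x ∈ N) (hxr : ∃ i, orderOf x = r ^ i) (hxc : x ∉ centralizer (N : Set G))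
    (hxn : ¬ IsMulCommutative ↥(cN N x))
    (hxs : ∀ n ∈ N, n ∈ normalizer ((cN N x : Subgroup G) : Set G) → n ∈ cN N x)
    (hy : y ∈ N) (hys : ∃ j, orderOf y = s ^ j) (hyc : y ∉ centralizer (N : Set G))
    (hyn : ¬ IsMulCommutative ↥(cN N y))
    (hyself : ∀ n ∈ N, n ∈ normalizer ((cN N y : Subgroup G) : Set G) → n ∈ cN N y) : False := by
  haveI := Fact.mk hr
  haveI := Fact.mk hs
  set Q := ↥N ⧸ center ↥N
  have hZA := cZ_le_cN (N := N) hx
  have hZB := cZ_le_cN (N := N) hy
  have hAp := isPGroup_down hH hx hxr hxc hxn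
  have hBp := isPGroup_down hH hy hys hyc hyn
  obtain ⟨S, hS⟩ := exists_sylow_eq_down hZA (cN_le x) hAp hxs
  obtain ⟨T, hT⟩ := exists_sylow_eq_down hZB (cN_le y) hBp hyself
  have hne : ∀ {z : G}, z ∈ N → z ∉ centralizer (N : Set G) → down N (cN N z) ≠ ⊥ := by
    intro z hz hzc h
    have : proj N ⟨z, hz⟩ ∈ down N (cN N z) := (mem_down_iff (cZ_le_cN hz)).mpr (self_mem_cN hz)
    rw [h, mem_bot, proj_eq_one_iff] at this
    exact hzc this.2
  have hproper : ∀ {z : G}, z ∈ N → z ∉ centralizer (N : Set G) → down N (cN N z) ≠ ⊤ := by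
    intro z hz hzc h
    exact cN_ne_self hz hzc (le_antisymm (cN_le z) fun n hn =>
      (mem_down_iff (cZ_le_cN hz) (m := ⟨n, hn⟩)).mp (h ▸ mem_top _))
  have hco : ∀ {X Y : Subgroup Q}, IsPGroup r ↥X → IsPGroup s ↥Y → X ⊓ Y = ⊥ := fun hX hY =>
    disjoint_iff.mp (IsPGroup.disjoint_of_ne r s hrs _ _ hX hY)
  -- no normal `r`-complement
  have hnoK : ¬ Cfsg.HasNormalPComplement r Q := by
    rintro ⟨P, K, hKn, hKc⟩
    have hKidx : K.index = Nat.card ↥(P : Subgroup Q) := hKc.symm.index_eq_card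
    have hKcard : Nat.card ↥K = (P : Subgroup Q).index := hKc.index_eq_card.symm
    obtain ⟨e, he⟩ := P.isPGroup'.exists_card_eq
    have hchar : K.Characteristic :=
      characteristic_iff_map_eq.mpr fun f => by
        haveI := hKn
        refine Subgroup.eq_of_le_of_card_ge ?_ (le_of_eq
          (Nat.card_congr (equivMapOfInjective K _ f.injective).toEquiv))
        rintro _ ⟨k, hk, rfl⟩
        rw [← QuotientGroup.eq_one_iff, ← orderOf_eq_one_iff, ← Nat.dvd_one]
        have hcop : (Nat.card ↥K).Coprime K.index := by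
          rw [hKidx, hKcard, he]
          exact ((hr.coprime_iff_not_dvd.mpr P.not_dvd_index).pow_left e).symm
        rw [← hcop]
        refine Nat.dvd_gcd ?_ ?_
        · exact (orderOf_map_dvd (QuotientGroup.mk' K) (f k)).trans
            (by rw [MulEquiv.orderOf_eq]; exact K.orderOf_dvd_natCard hk)
        · rw [index_eq_card]; exact orderOf_dvd_natCard _
    haveI := hchar
    haveI hupn : (up N K).Normal := ⟨fun n hn g => (mem_normalizer_iff.mp
      (mem_normalizer_up (characteristic_iff_map_eq.mp hchar (actAut N g))) n).mp hn⟩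
    have hTK : down N (cN N y) ≤ K := by
      rw [← hT]
      intro t ht
      rw [← QuotientGroup.eq_one_iff, ← orderOf_eq_one_iff, ← Nat.dvd_one]
      obtain ⟨l, hl⟩ := T.isPGroup'.exists_card_eq
      have h1 : orderOf (QuotientGroup.mk' K t) ∣ s ^ l :=
        (orderOf_map_dvd _ _).trans (hl ▸ (T : Subgroup Q).orderOf_dvd_natCard ht)
      have h2 : orderOf (QuotientGroup.mk' K t) ∣ r ^ e := by
        rw [← he, ← hKidx, index_eq_card]; exact orderOf_dvd_natCard _
      have := Nat.dvd_gcd h1 h2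
      rwa [(Nat.coprime_pow_primes l e hs hr hrs.symm).gcd_eq_one] at this
    rcases eq_or_eq hH hy hyc ((down_le_iff (cN_le y)).mp hTK) (up_le K)
      (by rw [normalizer_eq_top (up N K)]; exact le_top) with h | h
    · exact cN_ne_self hy hyc (le_antisymm (cN_le y) fun n hn =>
        hyself n hn (by rw [← h, normalizer_eq_top (up N K)]; trivial))
    · refine hne hx hxc ?_
      have hK : K = ⊤ := eq_top_iff.mpr fun q _ => by
        obtain ⟨m, rfl⟩ := QuotientGroup.mk'_surjective _ q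
        exact mem_up_iff.mp (h.ge m.2)
      rw [← hS]
      refine Subgroup.eq_bot_of_card_eq _ ?_
      rw [S.card_eq_multiplicity, ← P.card_eq_multiplicity, ← hKidx, hK, index_top]
  set W := Cfsg.centerThompsonOf r (S : Subgroup Q)
  have hWS : W ≤ (S : Subgroup Q) := inf_le_left.trans (CfsgLib.PLocal.thompsonSubgroupOf_le r _)
  have hWne : W ≠ ⊥ := SolvCrit.centerThompson_ne_bot S.isPGroup' (hS ▸ hne hx hxc)
  have hWinv : ∀ c ∈ centralizer ({x} : Set G), W.map (actAut N c).toMonoidHom = W := by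
    intro c hc
    have h1 : (S : Subgroup Q).map (actAut N c).toMonoidHom = S := by
      rw [hS]; exact map_actAut_down (cN_le x) hZA (le_normalizer_cN x hc)
    refine (CfsgLib.OddOrder.ZJ.map_centerThompsonOf (f := (actAut N c).toMonoidHom)
      (S := (S : Subgroup Q)) ((actAut N c).injective.injOn)).trans ?_
    rw [h1]
  set Y := normalizer (W : Set Q)
  have hYinv : ∀ c ∈ centralizer ({x} : Set G), Y.map (actAut N c).toMonoidHom = Y := by
    intro c hc
    rw [map_equiv_normalizer_eq, hWinv c hc]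
  have hSY : down N (cN N x) ≤ Y := by
    intro q hq
    rw [← hS] at hq
    obtain ⟨m, rfl⟩ := QuotientGroup.mk'_surjective _ q
    have hmS : (m : G) ∈ cN N x := (mem_down_iff hZA).mp (hS ▸ hq)
    refine mem_normalizer_fintype fun w hw => ?_
    have := hWinv m hmS.2
    rw [← this]
    refine ⟨w, hw, ?_⟩
    obtain ⟨v, rfl⟩ := QuotientGroup.mk'_surjective _ w
    show actAut N m (proj N v) = _
    rw [actAut_proj, ← map_inv, ← map_mul, ← map_mul]
    exact congrArg (proj N) (Subtype.ext (by simp [MulAut.conjNormal_apply]))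
  rcases eq_or_eq hH hx hxc ((down_le_iff (cN_le x)).mp hSY) (up_le Y)
    (fun c hc => mem_normalizer_up (hYinv c hc)) with h | h
  · refine hnoK (Transfer.GlaubermanThompson.glauberman_thompson hr2 S ?_)
    have hY : Y = (S : Subgroup Q) := by
      refine le_antisymm (fun q hq => ?_) (hS ▸ hSY)
      obtain ⟨m, rfl⟩ := QuotientGroup.mk'_surjective _ q
      rw [hS]
      exact (mem_down_iff hZA).mpr (h.le (mem_up_iff.mpr hq))
    show Cfsg.HasNormalPComplement r ↥Y
    rw [hY]
    obtain ⟨P⟩ : Nonempty (Sylow r ↥(S : Subgroup Q)) := inferInstance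
    refine ⟨P, ⊥, inferInstance, ?_⟩
    have hP : (P : Subgroup ↥(S : Subgroup Q)) = ⊤ :=
      (P.is_maximal' (S.isPGroup'.to_subgroup ⊤) le_top).symm
    rw [hP]
    exact isComplement'_bot_top
  · haveI hWn : W.Normal := by
      rw [← normalizer_eq_top_iff, eq_top_iff]
      intro q _
      obtain ⟨m, rfl⟩ := QuotientGroup.mk'_surjective _ q
      exact mem_up_iff.mp (h.ge m.2)
    haveI hupW : (up N W).Normal := by
      rw [← normalizer_eq_top_iff, eq_top_iff]
      intro g _
      obtain ⟨c, hc, n, hn, rfl⟩ := exists_mul hH hx hxc g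
      refine mul_mem (mem_normalizer_up (hWinv c hc)) (mem_normalizer_fintype ?_)
      rintro _ ⟨w, hw, rfl⟩
      exact ⟨⟨n, hn⟩ * w * ⟨n, hn⟩⁻¹, by
        show proj N _ ∈ W
        rw [map_mul, map_mul, map_inv]; exact hWn.conj_mem _ hw _, rfl⟩
    rcases eq_or_eq hH hy hyc (le_sup_left : _ ≤ cN N y ⊔ up N W)
      (sup_le (cN_le y) (up_le W))
      (fun c hc => normalizer_inf_normalizer_le_normalizer_sup _ _
        ⟨le_normalizer_cN y hc, by rw [normalizer_eq_top (up N W)]; trivial⟩) with h' | h'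
    · refine hWne (le_bot_iff.mp ?_)
      rw [← hco (S.isPGroup'.to_le hWS) T.isPGroup']
      refine le_inf le_rfl fun w hw => ?_
      obtain ⟨m, rfl⟩ := QuotientGroup.mk'_surjective _ w
      rw [hT]
      exact (mem_down_iff hZB).mpr (h'.le (mem_sup_right (mem_up_iff.mpr hw)))
    · -- the normal subgroup would be the Sylow subgroup
      have hWSeq : W = (S : Subgroup Q) := by
        refine le_antisymm hWS fun q hq => ?_
        obtain ⟨m, rfl⟩ := QuotientGroup.mk'_surjective _ q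
        have hm : (m : G) ∈ (↑(cN N y ⊔ up N W) : Set G) := h'.ge m.2
        rw [mul_normal] at hm
        obtain ⟨b, hb, _, ⟨w, hw, rfl⟩, hbw⟩ := hm
        have hm' : m = ⟨b, cN_le y hb⟩ * w := Subtype.ext hbw.symm
        rw [hm', map_mul] at hq ⊢
        have h1 : proj N ⟨b, cN_le y hb⟩ ∈ (S : Subgroup Q) ⊓ (T : Subgroup Q) := by
          refine ⟨?_, hT ▸ (mem_down_iff hZB).mpr hb⟩
          have h := mul_mem hq (inv_mem (hWS hw))
          rwa [mul_inv_cancel_right] at h
        rw [hco S.isPGroup' T.isPGroup', mem_bot] at h1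
        rw [h1, one_mul]
        exact hw
      refine cN_ne_self hx hxc (le_antisymm (cN_le x) fun n hn => hxs n hn ?_)
      have hA : up N W = cN N x := by
        ext g
        refine ⟨fun hg => ?_, fun hg => ?_⟩
        · obtain ⟨m, hm, rfl⟩ := hg
          exact (mem_down_iff hZA).mp ((hWSeq.trans hS).le hm)
        · refine (mem_up_iff (m := ⟨g, cN_le x hg⟩)).mpr ?_
          rw [hWSeq, hS]
          exact (mem_down_iff hZA).mpr hg
      rw [← hA, normalizer_eq_top (up N W)]
      trivial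

/-- `N` modulo its centre is elementary abelian or of Frobenius type. -/
theorem elementary_or_frobenius [Finite G] [hN : N.Normal] (hH : Hyp N) :
    (∃ p : ℕ, p.Prime ∧ (∀ n ∈ N, n ^ p ∈ cZ N) ∧
      ∀ a ∈ N, ∀ b ∈ N, a * b * a⁻¹ * b⁻¹ ∈ cZ N) ∨
    ∃ (x : G) (K : Subgroup G) (p q : ℕ), IsFrobeniusType N x K p q := by
  by_cases hall : ∀ x ∈ N, x ∉ centralizer (N : Set G) → (cN N x).Normal
  · exact Or.inl (elementary_of_normal hH hall)
  refine Or.inr ?_
  by_contra hcon
  have habn : ∀ x ∈ N, x ∉ centralizer (N : Set G) → IsMulCommutative ↥(cN N x) →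
      (cN N x).Normal := fun x hx hxc hab =>
    (normal_or_self_normalizing hH hx hxc).resolve_right fun hs => hcon
      ⟨x, frobenius_of_abelian hH hx hxc hab hs⟩
  push Not at hall
  obtain ⟨x₀, hx₀, hx₀c, hx₀n⟩ := hall
  obtain ⟨x, -, p, hp, hxp, hx, hxc, hce⟩ := exists_rep hH hx₀ hx₀c
  have hce' : cN N x₀ = cN N x := by rw [cN, cN, hce]
  rw [hce'] at hx₀n
  have hxn : ¬ IsMulCommutative ↥(cN N x) := fun h => hx₀n (habn x hx hxc h)
  have hxs := (normal_or_self_normalizing hH hx hxc).resolve_left hx₀n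
  haveI := Fact.mk hp
  have hZA := cZ_le_cN (N := N) hx
  obtain ⟨y, q, hy, hq, hqp, hyq, hyc⟩ : ∃ y q, y ∈ N ∧ q.Prime ∧ q ≠ p ∧
      (∃ j, orderOf y = q ^ j) ∧ y ∉ centralizer (N : Set G) := by
    by_contra hno
    push Not at hno
    have hQ : IsPGroup p (↥N ⧸ center ↥N) := by
      intro z
      obtain ⟨m, rfl⟩ := QuotientGroup.mk'_surjective _ z
      obtain ⟨k, t, ht, hkt⟩ :=
        Nat.exists_eq_pow_mul_and_not_dvd (orderOf_pos (m : G)).ne' p hp.ne_one
      refine ⟨k, ?_⟩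
      rw [← map_pow]
      change proj N _ = 1
      rw [proj_eq_one_iff]
      refine ⟨(m ^ p ^ k).2, mem_of_primePow _ _ fun b hb r hr ⟨l, hl⟩ => ?_⟩
      rcases eq_or_ne r p with rfl | hrp
      · have hd : orderOf b ∣ orderOf ((m : G) ^ r ^ k) := orderOf_dvd_of_mem_zpowers hb
        rw [hl, orderOf_pow_of_dvd (pow_ne_zero _ hp.ne_zero)
          (by rw [hkt]; exact dvd_mul_right _ _), hkt,
          Nat.mul_div_cancel_left _ (pow_pos hp.pos k)] at hd
        rcases Nat.eq_zero_or_pos l with rfl | hl0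
        · rw [(orderOf_eq_one_iff (x := b)).mp (by rw [hl, pow_zero])]; exact one_mem _
        · exact absurd ((dvd_pow_self r hl0.ne').trans hd) ht
      · exact hno b r (zpowers_le.mpr (m ^ p ^ k).2 hb) hr hrp ⟨l, hl⟩
    obtain ⟨S, hS⟩ := exists_sylow_eq_down hZA (cN_le x) (isPGroup_down hH hx hxp hxc hxn) hxs
    have htop : (S : Subgroup (↥N ⧸ center ↥N)) = ⊤ := (S.is_maximal' (hQ.to_subgroup ⊤) le_top).symm
    exact cN_ne_self hx hxc (le_antisymm (cN_le x) fun n hn =>
      (mem_down_iff hZA (m := ⟨n, hn⟩)).mp (hS ▸ htop ▸ mem_top _))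
  rcases normal_or_self_normalizing hH hy hyc with hn | hs
  · exact false_of_normal hH hp hq (Ne.symm hqp) hx hxp hxc hxn hy hyq hyc hn
  have hyn : ¬ IsMulCommutative ↥(cN N y) := by
    intro hab
    haveI := habn y hy hyc hab
    refine cN_ne_self hy hyc (le_antisymm (cN_le y) fun n hn => hs n hn ?_)
    rw [normalizer_eq_top (cN N y)]
    trivial
  by_cases hp2 : p = 2
  · exact false_of_two hH hq hp hqp (fun h => hqp (h.trans hp2.symm)) hy hyq hyc hyn hs
      hx hxp hxc hxn hxs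
  · exact false_of_two hH hp hq (Ne.symm hqp) hp2 hx hxp hxc hxn hxs hy hyq hyc hyn hs

end CfsgLib.MaxCentralizer
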